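import Mathlib
import Groth.Agent.Lib.Helper29.IntegralDim

/-! # Counting algebra maps from a finite type algebra over a finite field to a finite field

For a finite type algebra `A` of Krull dimension `≤ r` over a finite field `k` with `q` elements
there is `N` with `#Hom_k(A, k') ≤ N q^{r [k' : k]}` for all finite extensions `k'` of `k`. -/

set_option autoImplicit false

universe u

open Polynomial

namespace Groth.Agent.Lib.Helper18.PtCount

theorem exists_card_algHom_le {k : Type u} [Field k] [Finite k] {A : Type u} [CommRing A]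
    [Algebra k A] [Algebra.FiniteType k A] (r : ℕ) (hr : ringKrullDim A ≤ r) :
    ∃ N : ℕ, ∀ (k' : Type u) [Field k'] [Algebra k k'] [Finite k'],
      Finite (A →ₐ[k] k') ∧
        Nat.card (A →ₐ[k] k') ≤ N * Nat.card k ^ (r * Module.finrank k k') := by
  classical
  rcases subsingleton_or_nontrivial A with hA | hA
  · refine ⟨0, fun k' _ _ _ => ?_⟩
    have : IsEmpty (A →ₐ[k] k') := ⟨fun φ => by
      have h1 := φ.map_one
      rw [Subsingleton.elim (1 : A) 0, map_zero] at h1
      exact zero_ne_one h1⟩
    exact ⟨inferInstance, by simp⟩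
  obtain ⟨s, g, hinj, hfin⟩ := exists_finite_inj_algHom_of_fg k A
  have hs : s ≤ r := by
    letI := g.toRingHom.toAlgebra
    haveI : Algebra.IsIntegral (MvPolynomial (Fin s) k) A := ⟨hfin.to_isIntegral⟩
    have h1 := Groth.Agent.Lib.Helper29.ringKrullDim_le_of_isIntegral_of_injective
      (A := MvPolynomial (Fin s) k) (A' := A) hinj
    rw [MvPolynomial.ringKrullDim_of_isNoetherianRing, ringKrullDim_eq_zero_of_field, zero_add,
      Nat.card_fin] at h1
    exact_mod_cast h1.trans hr
  obtain ⟨t, ht⟩ := (Algebra.FiniteType.out : (⊤ : Subalgebra k A).FG)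
  have hint : ∀ a : A, ∃ m : Polynomial (MvPolynomial (Fin s) k), m.Monic ∧
      Polynomial.eval₂ g.toRingHom a m = 0 := fun a => hfin.to_isIntegral a
  choose m hm_monic hm_root using hint
  refine ⟨∏ a : t, (m a.1).natDegree, fun k' _ _ _ => ?_⟩
  haveI : Fintype k' := Fintype.ofFinite k'
  haveI : Module.Finite k k' := Module.Finite.of_finite
  set n := Module.finrank k k' with hn
  have hcard : Nat.card k' = Nat.card k ^ n := Module.natCard_eq_pow_finrank
  -- the roots
  let ev : (Fin s → k') → (MvPolynomial (Fin s) k →+* k') := fun c =>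
    (MvPolynomial.aeval c : MvPolynomial (Fin s) k →ₐ[k] k').toRingHom
  let R : t → (Fin s → k') → Finset k' := fun a c => ((m a.1).map (ev c)).roots.toFinset
  have hR : ∀ a c, (R a c).card ≤ (m a.1).natDegree := by
    intro a c
    calc (R a c).card ≤ Multiset.card ((m a.1).map (ev c)).roots := Multiset.toFinset_card_le _
      _ ≤ ((m a.1).map (ev c)).natDegree := Polynomial.card_roots' _
      _ = (m a.1).natDegree := (hm_monic a.1).natDegree_map _
  let T : Finset (Σ _ : (Fin s → k'), (t → k')) :=
    Finset.univ.sigma (fun c => Fintype.piFinset (fun a => R a c))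
  have hT : T.card ≤ (∏ a : t, (m a.1).natDegree) * Nat.card k ^ (r * n) := by
    rw [Finset.card_sigma]
    calc ∑ c : Fin s → k', (Fintype.piFinset fun a => R a c).card
        = ∑ c : Fin s → k', ∏ a, (R a c).card := by
          refine Finset.sum_congr rfl fun c _ => ?_
          rw [Fintype.card_piFinset]
      _ ≤ ∑ _c : Fin s → k', ∏ a : t, (m a.1).natDegree :=
          Finset.sum_le_sum fun c _ => Finset.prod_le_prod' fun a _ => hR a c
      _ = Fintype.card (Fin s → k') * ∏ a : t, (m a.1).natDegree := by
          rw [Finset.sum_const, Finset.card_univ, smul_eq_mul]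
      _ = (Nat.card k ^ n) ^ s * ∏ a : t, (m a.1).natDegree := by
          rw [Fintype.card_fun, Fintype.card_fin, ← Nat.card_eq_fintype_card, hcard]
      _ ≤ (∏ a : t, (m a.1).natDegree) * Nat.card k ^ (r * n) := by
          rw [mul_comm, ← pow_mul, mul_comm n s]
          exact Nat.mul_le_mul_left _
            (Nat.pow_le_pow_right Nat.card_pos (Nat.mul_le_mul_right _ hs))
  -- the injection
  let F : (A →ₐ[k] k') → T := fun φ =>
    ⟨⟨fun i => φ (g (MvPolynomial.X i)), fun a => φ a.1⟩, by
      rw [Finset.mem_sigma]
      refine ⟨Finset.mem_univ _, ?_⟩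
      rw [Fintype.mem_piFinset]
      intro a
      show φ a.1 ∈ ((m a.1).map (ev _)).roots.toFinset
      rw [Multiset.mem_toFinset, Polynomial.mem_roots ((hm_monic a.1).map _).ne_zero,
        Polynomial.IsRoot.def, Polynomial.eval_map]
      have h1 : ev (fun i => φ (g (MvPolynomial.X i))) = φ.toRingHom.comp g.toRingHom := by
        have h2 : (MvPolynomial.aeval (fun i => φ (g (MvPolynomial.X i))) :
            MvPolynomial (Fin s) k →ₐ[k] k') = φ.comp g := by
          apply MvPolynomial.algHom_ext
          intro i
          rw [MvPolynomial.aeval_X]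
          rfl
        show (MvPolynomial.aeval _ : MvPolynomial (Fin s) k →ₐ[k] k').toRingHom = _
        rw [h2]
        rfl
      rw [h1]
      have h3 := Polynomial.hom_eval₂ (m a.1) g.toRingHom φ.toRingHom a.1
      rw [hm_root a.1, map_zero] at h3
      exact h3.symm⟩
  have hF : Function.Injective F := by
    intro φ φ' h
    have h1 : ∀ a : t, φ a.1 = φ' a.1 := by
      intro a
      have h2 := congrArg (fun x : T => x.1.2 a) h
      exact h2
    apply AlgHom.ext_of_adjoin_eq_top ht
    intro a ha
    exact h1 ⟨a, ha⟩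
  haveI : Finite (A →ₐ[k] k') := Finite.of_injective F hF
  refine ⟨inferInstance, ?_⟩
  calc Nat.card (A →ₐ[k] k') ≤ Nat.card T := Nat.card_le_card_of_injective F hF
    _ = T.card := by rw [Nat.card_eq_fintype_card, Fintype.card_coe]
    _ ≤ _ := hT

end Groth.Agent.Lib.Helper18.PtCount
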