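import Groth.Agent.Lib.Helper18.PtCount.HomCount
import Groth.Prelude.Def_SgaExt

/-! # Points of a scheme over a field with values in an extension, through an affine open -/

set_option autoImplicit false
set_option linter.style.haveILetI false
set_option linter.unusedSectionVars false

universe u

open AlgebraicGeometry CategoryTheory TopologicalSpace

namespace Groth.Agent.Lib.Helper18.PtCount

variable {k : Type u} [Field k] {X : Scheme.{u}} (f : X ⟶ Spec (CommRingCat.of k))

/-- `k → Γ(X, U)`. -/
noncomputable def cU (U : X.Opens) : k →+* Γ(X, U) :=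
  (f.appLE ⊤ U le_top).hom.comp (Scheme.ΓSpecIso (CommRingCat.of k)).inv.hom

theorem fromSpec_comp {U : X.Opens} (hU : IsAffineOpen U) :
    hU.fromSpec ≫ f = Spec.map (CommRingCat.ofHom (cU f U)) := by
  have h1 := IsAffineOpen.SpecMap_appLE_fromSpec f (isAffineOpen_top (Spec (CommRingCat.of k))) hU
    (le_top : U ≤ f ⁻¹ᵁ ⊤)
  rw [← h1, IsAffineOpen.fromSpec_top, Scheme.isoSpec_Spec_inv, ← Spec.map_comp]
  rfl

theorem finiteType_cU [LocallyOfFiniteType f] {U : X.Opens} (hU : IsAffineOpen U) :
    (cU f U).FiniteType := by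
  have hsurj : Function.Surjective (Scheme.ΓSpecIso (CommRingCat.of k)).inv.hom :=
    (ConcreteCategory.bijective_of_isIso (Scheme.ΓSpecIso (CommRingCat.of k)).inv).2
  exact RingHom.FiniteType.comp (f.finiteType_appLE (isAffineOpen_top _) hU le_top)
      (RingHom.FiniteType.of_surjective _ hsurj)

theorem ringKrullDim_Γ_le_top {U : X.Opens} (hU : IsAffineOpen U) :
    ringKrullDim Γ(X, U) ≤ topologicalKrullDim X := by
  rw [← PrimeSpectrum.topologicalKrullDim_eq_ringKrullDim]
  have h1 : topologicalKrullDim (PrimeSpectrum Γ(X, U)) = topologicalKrullDim U :=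
    (IsHomeomorph.topologicalKrullDim_eq _ (Scheme.homeoOfIso hU.isoSpec).isHomeomorph).symm
  rw [h1]
  exact topologicalKrullDim_subspace_le X U

variable (k' : Type u) [Field k'] [Algebra k k']

/-- The `k'`-points of `X` landing in the open `U`. -/
def PtsIn (U : X.Opens) : Type u :=
  { g : Spec (CommRingCat.of k') ⟶ X //
    g ≫ f = Spec.map (CommRingCat.ofHom (algebraMap k k')) ∧ Set.range g ⊆ U }

/-- The ring map attached to a point landing in an affine open. -/
noncomputable def ptsHom {U : X.Opens} (hU : IsAffineOpen U) (g : PtsIn f k' U) :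
    Γ(X, U) →+* k' :=
  (Spec.preimage (IsOpenImmersion.lift hU.fromSpec g.1
    (by rw [hU.range_fromSpec]; exact g.2.2))).hom

theorem ptsHom_spec {U : X.Opens} (hU : IsAffineOpen U) (g : PtsIn f k' U) :
    Spec.map (CommRingCat.ofHom (ptsHom f k' hU g)) ≫ hU.fromSpec = g.1 := by
  unfold ptsHom
  rw [CommRingCat.ofHom_hom, Spec.map_preimage, IsOpenImmersion.lift_fac]

theorem ptsHom_injective {U : X.Opens} (hU : IsAffineOpen U) :
    Function.Injective (ptsHom f k' hU) := by
  intro g g' h
  apply Subtype.ext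
  rw [← ptsHom_spec f k' hU g, ← ptsHom_spec f k' hU g', h]

theorem ptsHom_cU {U : X.Opens} (hU : IsAffineOpen U) (g : PtsIn f k' U) (c : k) :
    ptsHom f k' hU g (cU f U c) = algebraMap k k' c := by
  have h1 := g.2.1
  rw [← ptsHom_spec f k' hU g, Category.assoc, fromSpec_comp, ← Spec.map_comp] at h1
  have h2 := Spec.map_injective h1
  exact congrArg (fun φ => φ.hom c) h2

/-- Points landing in an affine open inject into algebra maps. -/
noncomputable def ptsAlgHom {U : X.Opens} (hU : IsAffineOpen U) (g : PtsIn f k' U) :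
    @AlgHom k Γ(X, U) k' _ _ _ (cU f U).toAlgebra _ :=
  letI := (cU f U).toAlgebra
  { ptsHom f k' hU g with commutes' := ptsHom_cU f k' hU g }

theorem ptsAlgHom_injective {U : X.Opens} (hU : IsAffineOpen U) :
    Function.Injective (ptsAlgHom f k' hU) := by
  intro g g' h
  apply ptsHom_injective f k' hU
  letI := (cU f U).toAlgebra
  have h2 := congrArg (fun φ : Γ(X, U) →ₐ[k] k' => φ.toRingHom) h
  exact h2

end Groth.Agent.Lib.Helper18.PtCount
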