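import Mathlib
import Groth.Agent.Lib.Helper24.PS.LogODE

/-! # The formal Euler product of `exp(∑ N_m t^m / m)` with `N_m = ∑_{e ∣ m} e a_e` -/

set_option autoImplicit false

open PowerSeries

namespace Groth.Agent.Lib.Helper18.PtCount

open Groth.Agent.Lib.Helper24.PS

variable (a : ℕ → ℕ)

/-- `N_m = ∑_{e ∣ m} e a_e`. -/
def NNa (m : ℕ) : ℕ := ∑ e ∈ m.divisors, e * a e

/-- `∑ N_m t^m / m`. -/
noncomputable def La : ℚ⟦X⟧ := PowerSeries.mk fun m => (NNa a m : ℚ) / m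

/-- `exp(∑ N_m t^m / m)`. -/
noncomputable def Za : ℚ⟦X⟧ := PowerSeries.subst (La a) (PowerSeries.exp ℚ)

theorem constantCoeff_La : constantCoeff (La a) = 0 := by
  rw [← coeff_zero_eq_constantCoeff_apply, La, coeff_mk]
  simp

/-- `∑_{r ∣ j + 1} r t^j`, minus the logarithmic derivative of `1 - t^r`. -/
noncomputable def geomR (r : ℕ) : ℚ⟦X⟧ := PowerSeries.mk fun j => if r ∣ j + 1 then (r : ℚ) else 0

theorem one_sub_mul_geomR {r : ℕ} (hr : 1 ≤ r) :
    (1 - (X : ℚ⟦X⟧) ^ r) * geomR r = C (r : ℚ) * X ^ (r - 1) := by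
  ext j
  rw [sub_mul, one_mul, map_sub, coeff_X_pow_mul', coeff_C_mul, coeff_X_pow, geomR, coeff_mk,
    coeff_mk]
  by_cases hj : r ≤ j
  · rw [if_pos hj]
    have h1 : (r ∣ j - r + 1) ↔ (r ∣ j + 1) := by
      have : j + 1 = (j - r + 1) + r := by omega
      rw [this]
      exact (Nat.dvd_add_self_right).symm
    have h2 : j ≠ r - 1 := by omega
    rw [if_neg h2, mul_zero]
    by_cases h3 : r ∣ j + 1
    · rw [if_pos h3, if_pos (h1.mpr h3), sub_self]
    · rw [if_neg h3, if_neg (fun h => h3 (h1.mp h)), sub_self]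
  · rw [if_neg hj, sub_zero]
    have h1 : (r ∣ j + 1) ↔ j = r - 1 := by
      constructor
      · intro h
        have := Nat.le_of_dvd (by omega) h
        omega
      · intro h
        have : j + 1 = r := by omega
        rw [this]
    by_cases h3 : j = r - 1
    · rw [if_pos (h1.mpr h3), if_pos h3, mul_one]
    · rw [if_neg (fun h => h3 (h1.mp h)), if_neg h3, mul_zero]

theorem derivative_one_sub_X_pow {r : ℕ} (hr : 1 ≤ r) :
    d⁄dX ℚ (1 - (X : ℚ⟦X⟧) ^ r) = (1 - (X : ℚ⟦X⟧) ^ r) * (-geomR r) := by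
  rw [mul_neg, one_sub_mul_geomR hr, map_sub, derivative_one, zero_sub, Derivation.leibniz_pow,
    derivative_X]
  simp only [smul_eq_mul, mul_one, nsmul_eq_mul]
  congr 1

/-- The finite Euler factor `∏_{r ≤ n} (1 - t^r)^{a_r}`. -/
noncomputable def Pa (n : ℕ) : ℚ⟦X⟧ := ∏ r ∈ Finset.Icc 1 n, (1 - (X : ℚ⟦X⟧) ^ r) ^ a r

/-- The logarithmic derivative of `Z · P_n`. -/
noncomputable def Ea (n : ℕ) : ℚ⟦X⟧ :=
  d⁄dX ℚ (La a) + ∑ r ∈ Finset.Icc 1 n, ((a r : ℕ) : ℚ⟦X⟧) * (-geomR r)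

theorem derivative_Za_mul_Pa (n : ℕ) :
    d⁄dX ℚ (Za a * Pa a n) = (Za a * Pa a n) * Ea a n := by
  have h1 : d⁄dX ℚ (Za a) = Za a * d⁄dX ℚ (La a) := derivative_exp_subst (constantCoeff_La a)
  have h2 : d⁄dX ℚ (Pa a n) = Pa a n * ∑ r ∈ Finset.Icc 1 n, ((a r : ℕ) : ℚ⟦X⟧) * (-geomR r) :=
    derivative_prod_of_logDeriv _ _ _ (fun r hr =>
      derivative_pow_of_logDeriv (derivative_one_sub_X_pow (Finset.mem_Icc.mp hr).1) (a r))
  rw [Derivation.leibniz, h1, h2, Ea]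
  simp only [smul_eq_mul]
  ring

theorem coeff_Ea {n j : ℕ} (hj : j < n) : coeff j (Ea a n) = 0 := by
  rw [Ea, map_add, coeff_derivative, La, coeff_mk, map_sum]
  have h1 : ∀ r ∈ Finset.Icc 1 n, coeff j (((a r : ℕ) : ℚ⟦X⟧) * (-geomR r)) =
      if r ∣ j + 1 then -((a r : ℚ) * r) else 0 := by
    intro r _
    rw [← map_natCast (C (R := ℚ)), coeff_C_mul, map_neg, geomR, coeff_mk]
    split_ifs <;> ring
  rw [Finset.sum_congr rfl h1, ← Finset.sum_filter]
  have h2 : (Finset.Icc 1 n).filter (fun r => r ∣ j + 1) = (j + 1).divisors := by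
    ext r
    rw [Finset.mem_filter, Finset.mem_Icc, Nat.mem_divisors]
    constructor
    · rintro ⟨-, h⟩
      exact ⟨h, by omega⟩
    · rintro ⟨h, -⟩
      have h3 := Nat.le_of_dvd (by omega) h
      have h4 : r ≠ 0 := by
        rintro rfl
        simp at h
      omega
  rw [h2, NNa]
  have h5 : ((j + 1 : ℕ) : ℚ) ≠ 0 := by exact_mod_cast Nat.succ_ne_zero j
  push_cast
  rw [div_mul_cancel₀ _ (by exact_mod_cast h5), Finset.sum_neg_distrib]
  rw [add_neg_eq_zero]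
  exact Finset.sum_congr rfl fun r _ => mul_comm _ _

theorem constantCoeff_Za : constantCoeff (Za a) = 1 := constantCoeff_exp_subst (constantCoeff_La a)

theorem constantCoeff_Pa (n : ℕ) : constantCoeff (Pa a n) = 1 := by
  rw [Pa, map_prod]
  refine Finset.prod_eq_one fun r hr => ?_
  have hr1 := (Finset.mem_Icc.mp hr).1
  rw [map_pow, map_sub, map_pow, constantCoeff_X, zero_pow (by omega), map_one, sub_zero, one_pow]

theorem coeff_Za_mul_Pa {n i : ℕ} (hi1 : 1 ≤ i) (hin : i ≤ n) : coeff i (Za a * Pa a n) = 0 := by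
  obtain ⟨j, rfl⟩ : ∃ j, i = j + 1 := ⟨i - 1, by omega⟩
  have h1 : coeff j (d⁄dX ℚ (Za a * Pa a n)) = 0 := by
    rw [derivative_Za_mul_Pa, coeff_mul]
    refine Finset.sum_eq_zero fun p hp => ?_
    have := Finset.HasAntidiagonal.mem_antidiagonal.mp hp
    rw [coeff_Ea a (by omega : p.2 < n), mul_zero]
  rw [coeff_derivative] at h1
  have h5 : ((j : ℚ) + 1) ≠ 0 := by exact_mod_cast Nat.succ_ne_zero j
  exact (mul_eq_zero.mp h1).resolve_right h5

/-- `Z · ∏_{r ≤ n} (1 - t^r)^{a_r} ≡ 1` modulo `t^{n+1}`. -/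
theorem trunc_Za_mul_Pa (n : ℕ) : trunc (n + 1) (Za a * Pa a n) = 1 := by
  ext i
  rw [coeff_trunc, Polynomial.coeff_one]
  by_cases hi : i < n + 1
  · rw [if_pos hi]
    rcases Nat.eq_zero_or_pos i with rfl | hpos
    · rw [if_pos rfl, coeff_zero_eq_constantCoeff_apply, map_mul, constantCoeff_Za,
        constantCoeff_Pa, one_mul]
    · rw [if_neg (by omega), coeff_Za_mul_Pa a hpos (by omega)]
  · rw [if_neg hi, if_neg (by omega)]

/-- The integral version of the finite Euler factor. -/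
noncomputable def PaZ (n : ℕ) : ℤ⟦X⟧ := ∏ r ∈ Finset.Icc 1 n, (1 - (X : ℤ⟦X⟧) ^ r) ^ a r

theorem map_PaZ (n : ℕ) : PowerSeries.map (Int.castRingHom ℚ) (PaZ a n) = Pa a n := by
  rw [PaZ, Pa, map_prod]
  refine Finset.prod_congr rfl fun r _ => ?_
  rw [map_pow, map_sub, map_pow, map_one, map_X]

theorem constantCoeff_PaZ (n : ℕ) : constantCoeff (PaZ a n) = 1 := by
  rw [PaZ, map_prod]
  refine Finset.prod_eq_one fun r hr => ?_
  have hr1 := (Finset.mem_Icc.mp hr).1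
  rw [map_pow, map_sub, map_pow, constantCoeff_X, zero_pow (by omega), map_one, sub_zero, one_pow]

/-- The coefficients of `Z` are integers. -/
theorem exists_int_coeff_Za (n : ℕ) : ∃ z : ℤ, coeff n (Za a) = (z : ℚ) := by
  have hunit : IsUnit (PaZ a n) := by
    rw [isUnit_iff_constantCoeff, constantCoeff_PaZ]
    exact isUnit_one
  obtain ⟨u, hu⟩ := hunit
  set Q : ℚ⟦X⟧ := PowerSeries.map (Int.castRingHom ℚ) ((u⁻¹ : (ℤ⟦X⟧)ˣ) : ℤ⟦X⟧) with hQ
  have hPQ : Pa a n * Q = 1 := by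
    rw [← map_PaZ, ← hu, hQ, ← map_mul, Units.mul_inv, map_one]
  have hZ : Za a = (Za a * Pa a n) * Q := by rw [mul_assoc, hPQ, mul_one]
  refine ⟨coeff n ((u⁻¹ : (ℤ⟦X⟧)ˣ) : ℤ⟦X⟧), ?_⟩
  rw [hZ, coeff_mul]
  rw [Finset.sum_eq_single (0, n)]
  · rw [coeff_zero_eq_constantCoeff_apply, map_mul, constantCoeff_Za, constantCoeff_Pa, one_mul,
      one_mul, hQ, coeff_map]
    rfl
  · intro p hp hne
    have h1 := Finset.HasAntidiagonal.mem_antidiagonal.mp hp
    have h2 : 1 ≤ p.1 := by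
      rcases Nat.eq_zero_or_pos p.1 with h0 | h0
      · exfalso
        apply hne
        ext
        · exact h0
        · show p.2 = n
          omega
      · exact h0
    rw [coeff_Za_mul_Pa a h2 (by omega), zero_mul]
  · intro h
    exact absurd (Finset.HasAntidiagonal.mem_antidiagonal.mpr (zero_add n)) h

end Groth.Agent.Lib.Helper18.PtCount
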