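import Groth.Agent.Lib.Helper18.PtCount.Finite
import Groth.Agent.Lib.Helper18.PtCount.EulerFormal
import Groth.Agent.Lib.Helper18.Zeta.SchmidtInst
import Groth.Prelude.Def_W4c1zetahwZeta

/-! # Closed points and residue degrees under immersions; multiplicativity of the zeta function -/

set_option autoImplicit false
set_option linter.style.haveILetI false
set_option linter.unusedSectionVars false

universe u

open AlgebraicGeometry CategoryTheory TopologicalSpace

namespace Groth.Agent.Lib.Helper18.PtCount

open Groth.Agent.Lib.Helper18.Curve

variable {k : Type u} [Field k] {X : Scheme.{u}} (f : X ⟶ Spec (CommRingCat.of k))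

/-- A closed point of a scheme locally of finite type over a field has a finite residue field
extension (Nullstellensatz). -/
theorem resDeg_pos_of_isClosed [LocallyOfFiniteType f] {x : X} (hx : IsClosed ({x} : Set X)) :
    0 < resDeg f x := by
  haveI : JacobsonSpace X := LocallyOfFiniteType.jacobsonSpace f
  have h1 : LocallyOfFiniteType (X.fromSpecResidueField x) :=
    isClosed_singleton_iff_locallyOfFiniteType.mp hx
  have h2 : LocallyOfFiniteType (X.fromSpecResidueField x ≫ f) := inferInstance
  rw [fromSpecResidueField_comp, HasRingHomProperty.Spec_iff (P := @LocallyOfFiniteType)] at h2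
  letI := resAlg f x
  have h3 : Algebra.FiniteType k (X.residueField x) := h2
  haveI : Module.Finite k (X.residueField x) := finite_of_finite_type_of_isJacobsonRing _ _
  exact Module.finrank_pos

theorem isClosed_singleton_iff_resDeg_pos [LocallyOfFiniteType f] {x : X} :
    IsClosed ({x} : Set X) ↔ 0 < resDeg f x :=
  ⟨resDeg_pos_of_isClosed f, isClosed_of_resDeg_pos f⟩

/-- The residue degree is unchanged along a morphism which is surjective on stalks. -/
theorem resDeg_comp_of_surjectiveOnStalks {Y : Scheme.{u}} (g : Y ⟶ X) [SurjectiveOnStalks g]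
    (y : Y) : resDeg (g ≫ f) y = resDeg f (g y) := by
  have hsurj : Function.Surjective (g.residueFieldMap y).hom := by
    have h1 : Function.Surjective ((Y.residue y).hom.comp (g.stalkMap y).hom) :=
      (IsLocalRing.residue_surjective).comp (g.stalkMap_surjective y)
    have h2 : (g.residueFieldMap y).hom.comp (X.residue (g y)).hom =
        (Y.residue y).hom.comp (g.stalkMap y).hom := by
      have := Scheme.residue_residueFieldMap g y
      exact congrArg CommRingCat.Hom.hom this
    rw [← h2] at h1
    exact Function.Surjective.of_comp (g := (X.residue (g y)).hom) h1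
  have hbij : Function.Bijective (g.residueFieldMap y).hom :=
    ⟨(g.residueFieldMap y).hom.injective, hsurj⟩
  have hcomp : (g.residueFieldMap y).hom.comp (resMapF f (g y)) = resMapF (g ≫ f) y := by
    have h1 := Scheme.Hom.SpecMap_residueFieldMap_fromSpecResidueField g y
    have h2 := congrArg (fun h => h ≫ f) h1
    simp only [Category.assoc] at h2
    rw [fromSpecResidueField_comp f (g y), fromSpecResidueField_comp (g ≫ f) y,
      ← Spec.map_comp] at h2
    have h3 := Spec.map_injective h2
    ext c
    exact congrArg (fun φ => φ.hom c) h3
  unfold resDeg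
  letI a1 : Algebra k (X.residueField (g y)) := resAlg f (g y)
  letI a2 : Algebra k (Y.residueField y) := resAlg (g ≫ f) y
  refine (Algebra.finrank_eq_of_equiv_equiv (RingEquiv.refl k)
    (RingEquiv.ofBijective (g.residueFieldMap y).hom hbij) ?_).symm
  ext c
  exact (congrArg (fun φ => φ c) hcomp).symm

/-- The number of closed points of residue degree `e ≥ 1`, through the degree over `k`. -/
theorem degCount_eq_natCard [LocallyOfFiniteType f] {e : ℕ} (he : 0 < e) :
    Zeta.degCount f e = Nat.card {x : X // resDeg f x = e} := by
  unfold Zeta.degCount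
  apply Nat.card_congr
  refine Equiv.subtypeEquivRight (fun x => ?_)
  rw [residueDegree_eq_resDeg]
  constructor
  · exact fun h => h.2
  · intro h
    exact ⟨isClosed_of_resDeg_pos f (by rw [h]; exact he), h⟩

/-- A finite field has extensions of every positive degree in the same universe. -/
theorem exists_field_ext (k : Type u) [Field k] [Finite k] (d : ℕ) (hd : 0 < d) :
    ∃ (k' : Type u) (_ : Field k') (_ : Algebra k k'), Finite k' ∧ Module.finrank k k' = d := by
  obtain ⟨g, hmon, hirr, hdeg⟩ := Groth.Agent.Lib.Helper18.Zeta.exists_irreducible_natDegree k d hd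
  haveI : Fact (Irreducible g) := ⟨hirr⟩
  have hg0 : g ≠ 0 := hirr.ne_zero
  haveI : FiniteDimensional k (AdjoinRoot g) := (AdjoinRoot.powerBasis hg0).finite
  haveI : Finite (AdjoinRoot g) := Module.finite_of_finite k
  refine ⟨AdjoinRoot g, inferInstance, inferInstance, inferInstance, ?_⟩
  rw [(AdjoinRoot.powerBasis hg0).finrank, AdjoinRoot.powerBasis_dim, hdeg]

/-- There are finitely many points of a given positive residue degree. -/
theorem finite_resDeg_eq [Finite k] [LocallyOfFiniteType f] [QuasiCompact f] {e : ℕ} (he : 0 < e) :
    Finite {x : X // resDeg f x = e} := by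
  obtain ⟨k', _, _, _, hk'⟩ := exists_field_ext k e he
  have h1 := finite_setOf_resDeg_dvd f k'
  rw [hk'] at h1
  exact (h1.subset (fun x (hx : resDeg f x = e) => by
    show resDeg f x ∣ e
    rw [hx])).to_subtype

end Groth.Agent.Lib.Helper18.PtCount
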