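import Groth.Agent.Lib.Helper18.PtCount.Closed

/-! # Finiteness of the set of points with values in a finite field; the point count as a sum over
closed points -/

set_option autoImplicit false
set_option linter.style.haveILetI false
set_option linter.unusedSectionVars false

universe u

open AlgebraicGeometry CategoryTheory TopologicalSpace

namespace Groth.Agent.Lib.Helper18.PtCount

open Groth.Agent.Lib.Helper18.Curve

theorem finite_algHom_of_finiteType {k : Type u} [Field k] {A : Type u} [CommRing A]
    [Algebra k A] [Algebra.FiniteType k A] (k' : Type u) [Field k'] [Algebra k k'] [Finite k'] :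
    Finite (A →ₐ[k] k') := by
  obtain ⟨t, ht⟩ := (Algebra.FiniteType.out : (⊤ : Subalgebra k A).FG)
  let F : (A →ₐ[k] k') → (t → k') := fun φ a => φ a.1
  have hF : Function.Injective F := by
    intro φ φ' h
    apply AlgHom.ext_of_adjoin_eq_top ht
    intro a ha
    exact congrFun h ⟨a, ha⟩
  exact Finite.of_injective F hF

variable {k : Type u} [Field k] {X : Scheme.{u}} (f : X ⟶ Spec (CommRingCat.of k))
  [LocallyOfFiniteType f] [QuasiCompact f] (k' : Type u) [Field k'] [Algebra k k'] [Finite k']

/-- The set of `k'`-points of a scheme of finite type over `k` is finite, for `k'` finite. -/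
theorem finite_points :
    Finite { g : Spec (CommRingCat.of k') ⟶ X //
      g ≫ f = Spec.map (CommRingCat.ofHom (algebraMap k k')) } := by
  classical
  haveI : CompactSpace X := QuasiCompact.compactSpace_of_compactSpace f
  have haff : ∀ x : X, ∃ U : X.Opens, IsAffineOpen U ∧ x ∈ U := by
    intro x
    refine ⟨(X.affineCover.f (X.affineCover.idx x)).opensRange, isAffineOpen_opensRange _, ?_⟩
    exact X.affineCover.covers x
  choose U hU hxU using haff
  obtain ⟨t, ht⟩ := isCompact_univ.elim_finite_subcover (fun x => (U x : Set X))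
    (fun x => (U x).isOpen) (fun x _ => Set.mem_iUnion.2 ⟨x, hxU x⟩)
  have hfin : ∀ x : X, Finite (PtsIn f k' (U x)) := by
    intro x
    letI := (cU f (U x)).toAlgebra
    haveI : Algebra.FiniteType k Γ(X, U x) := finiteType_cU f (hU x)
    haveI := finite_algHom_of_finiteType (k := k) (A := Γ(X, U x)) k'
    exact Finite.of_injective _ (ptsAlgHom_injective f k' (hU x))
  have hidx : ∀ g : Spec (CommRingCat.of k') ⟶ X, ∃ x ∈ t, Set.range g ⊆ U x := by
    intro g
    have h1 := ht (Set.mem_univ (g default))
    simp only [Set.mem_iUnion] at h1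
    obtain ⟨x, hx, hgx⟩ := h1
    refine ⟨x, hx, ?_⟩
    rintro _ ⟨y, rfl⟩
    rw [Subsingleton.elim y default]
    exact hgx
  choose idx hidxt hidxU using hidx
  let F : { g : Spec (CommRingCat.of k') ⟶ X //
      g ≫ f = Spec.map (CommRingCat.ofHom (algebraMap k k')) } →
        Σ x : t, PtsIn f k' (U x.1) :=
    fun g => ⟨⟨idx g.1, hidxt g.1⟩, ⟨g.1, g.2, hidxU g.1⟩⟩
  have hF : Function.Injective F := by
    intro g g' h
    apply Subtype.ext
    have h1 : ∀ a b : Σ x : t, PtsIn f k' (U x.1), a = b → a.2.1 = b.2.1 := by
      rintro a _ rfl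
      rfl
    exact h1 _ _ h
  haveI : ∀ x : t, Finite (PtsIn f k' (U x.1)) := fun x => hfin x.1
  exact Finite.of_injective F hF

/-- The points whose residue degree divides `[k' : k]` form a finite set. -/
theorem finite_setOf_resDeg_dvd [Finite k] :
    {x : X | resDeg f x ∣ Module.finrank k k'}.Finite := by
  haveI := finite_points f k'
  haveI : Finite (Σ x : X, ResHom f k' x) := Finite.of_equiv _ (pointsEquiv f k')
  have h1 : {x : X | resDeg f x ∣ Module.finrank k k'} ⊆
      Set.range (fun s : Σ x : X, ResHom f k' x => s.1) := by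
    intro x hx
    obtain ⟨φ⟩ := (nonempty_resHom_iff f k' x).mpr hx
    exact ⟨⟨x, φ⟩, rfl⟩
  exact (Set.finite_range _).subset h1

end Groth.Agent.Lib.Helper18.PtCount
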