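import Groth.Agent.Lib.Helper18.PtCount.Partition
import Groth.Agent.S13050

/-! # Points of the affine line over a scheme; the zeta function of `𝔸¹_X` -/

set_option autoImplicit false
set_option linter.style.haveILetI false
set_option linter.unusedSectionVars false

universe u

open AlgebraicGeometry CategoryTheory TopologicalSpace PowerSeries

namespace Groth.Agent.Lib.Helper18.PtCount

open Groth.Agent.Lib.Helper18.Curve Groth.Agent.Lib.Helper24.PS

section Formal

theorem rescale_subst_exp (q : ℚ) {L : ℚ⟦X⟧} (hL : constantCoeff L = 0) :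
    rescale q (PowerSeries.subst L (exp ℚ)) = PowerSeries.subst (rescale q L) (exp ℚ) := by
  have h1 : HasSubst L := hasSubst_of_constantCoeff_zero hL
  have h2 : HasSubst (q • (X : ℚ⟦X⟧)) := by
    apply hasSubst_of_constantCoeff_zero
    simp
  rw [rescale_eq_subst, subst_comp_subst_apply h1 h2, ← rescale_eq_subst]

end Formal

variable {k : Type u} [Field k] {X : Scheme.{u}} (f : X ⟶ Spec (CommRingCat.of k))

/-- Morphisms to an affine space are pairs of a morphism to the base and a vector of functions. -/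
noncomputable def homAffineSpaceEquiv (n : Type u) (T : Scheme.{u}) :
    (T ⟶ 𝔸(n; X)) ≃ (T ⟶ X) × (n → Γ(T, ⊤)) where
  toFun h := (h ≫ 𝔸(n; X) ↘ X, fun i => h.appTop (AffineSpace.coord X i))
  invFun p := AffineSpace.homOfVector p.1 p.2
  left_inv h := by
    apply AffineSpace.hom_ext
    · rw [AffineSpace.homOfVector_over]
    · intro i
      rw [AffineSpace.homOfVector_appTop_coord]
  right_inv p := by
    apply Prod.ext
    · exact AffineSpace.homOfVector_over p.1 p.2
    · funext i
      exact AffineSpace.homOfVector_appTop_coord p.1 p.2 i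

variable (k' : Type u) [Field k'] [Algebra k k']

/-- The `k'`-points of `𝔸¹_X` are pairs of a `k'`-point of `X` and an element of `k'`. -/
noncomputable def pointsAffineLineEquiv :
    { h : Spec (CommRingCat.of k') ⟶ 𝔸(PUnit.{u + 1}; X) //
      h ≫ (𝔸(PUnit.{u + 1}; X) ↘ X) ≫ f = Spec.map (CommRingCat.ofHom (algebraMap k k')) } ≃
    { g : Spec (CommRingCat.of k') ⟶ X //
      g ≫ f = Spec.map (CommRingCat.ofHom (algebraMap k k')) } ×
        (PUnit.{u + 1} → Γ(Spec (CommRingCat.of k'), ⊤)) where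
  toFun h := (⟨h.1 ≫ 𝔸(PUnit.{u + 1}; X) ↘ X, by rw [Category.assoc]; exact h.2⟩,
    (homAffineSpaceEquiv PUnit.{u + 1} _ h.1).2)
  invFun p := ⟨(homAffineSpaceEquiv PUnit.{u + 1} _).symm (p.1.1, p.2), by
    show AffineSpace.homOfVector p.1.1 p.2 ≫ _ ≫ f = _
    rw [AffineSpace.homOfVector_over_assoc]
    exact p.1.2⟩
  left_inv h := by
    apply Subtype.ext
    exact (homAffineSpaceEquiv PUnit.{u + 1} _).left_inv h.1
  right_inv p := by
    refine Prod.ext (Subtype.ext ?_) ?_
    · exact AffineSpace.homOfVector_over p.1.1 p.2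
    · show (homAffineSpaceEquiv PUnit.{u + 1} (Spec (CommRingCat.of k'))
        ((homAffineSpaceEquiv PUnit.{u + 1} (Spec (CommRingCat.of k'))).symm (p.1.1, p.2))).2 = p.2
      rw [Equiv.apply_symm_apply]

theorem pointCount_affineLine [Finite k'] :
    SgaExt.pointCount ((𝔸(PUnit.{u + 1}; X) ↘ X) ≫ f) k' =
      SgaExt.pointCount f k' * Nat.card k' := by
  unfold SgaExt.pointCount
  rw [Nat.card_congr (pointsAffineLineEquiv f k'), Nat.card_prod]
  congr 1
  rw [Nat.card_congr (Equiv.punitArrowEquiv _)]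
  exact Nat.card_congr (Scheme.ΓSpecIso (CommRingCat.of k')).commRingCatIsoToRingEquiv.toEquiv

variable [Finite k] [LocallyOfFiniteType f] [QuasiCompact f]

theorem nPts_affineLine (m : ℕ) :
    Zeta.nPts ((𝔸(PUnit.{u + 1}; X) ↘ X) ≫ f) m = Nat.card k ^ m * Zeta.nPts f m := by
  rcases Nat.eq_zero_or_pos m with rfl | hm
  · simp [Zeta.nPts]
  obtain ⟨k', _, _, _, hk'⟩ := exists_field_ext k m hm
  haveI : Module.Finite k k' := Module.Finite.of_finite
  have h1 := Groth.Agent.S13050.result ((𝔸(PUnit.{u + 1}; X) ↘ X) ≫ f) k'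
  have h2 := Groth.Agent.S13050.result f k'
  rw [hk'] at h1 h2
  rw [← h1, ← h2, pointCount_affineLine, mul_comm]
  congr 1
  rw [Module.natCard_eq_pow_finrank (K := k) (V := k'), hk']

theorem zetaFun_affineLine :
    Zeta.zetaFun ((𝔸(PUnit.{u + 1}; X) ↘ X) ≫ f) =
      PowerSeries.rescale (Nat.card k : ℚ) (Zeta.zetaFun f) := by
  have hL0 : constantCoeff (Zeta.logZeta f) = 0 := by
    rw [← coeff_zero_eq_constantCoeff_apply, Zeta.logZeta, coeff_mk]
    simp
  unfold Zeta.zetaFun
  rw [rescale_subst_exp _ hL0]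
  congr 1
  ext m
  rw [coeff_rescale, Zeta.logZeta, Zeta.logZeta, coeff_mk, coeff_mk, nPts_affineLine]
  push_cast
  ring

end Groth.Agent.Lib.Helper18.PtCount
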