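import Groth.Agent.Lib.Helper18.PtCount.BaseChangeFormal
import Groth.Agent.Lib.Helper18.PtCount.Immersion
import Groth.Agent.S13050

/-! # The zeta function of a base change to a finite extension of a finite field -/

set_option autoImplicit false
set_option linter.style.haveILetI false
set_option linter.unusedSectionVars false

universe u

open AlgebraicGeometry CategoryTheory CategoryTheory.Limits PowerSeries

namespace Groth.Agent.Lib.Helper18.PtCount.BC

variable {k : Type u} [Field k] {X : Scheme.{u}} (f : X ⟶ Spec (CommRingCat.of k))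
variable (k' : Type u) [Field k'] [Algebra k k']

/-- `k''`-points of `X' = X ×_k k'` over `k'` are `k''`-points of `X` over `k`. -/
noncomputable def pointsBaseChangeEquiv (k'' : Type u) [Field k''] [Algebra k' k''] [Algebra k k'']
    [IsScalarTower k k' k''] :
    { g : Spec (CommRingCat.of k'') ⟶ pullback f (Spec.map (CommRingCat.ofHom (algebraMap k k'))) //
      g ≫ pullback.snd f (Spec.map (CommRingCat.ofHom (algebraMap k k'))) =
        Spec.map (CommRingCat.ofHom (algebraMap k' k'')) } ≃
    { h : Spec (CommRingCat.of k'') ⟶ X //
      h ≫ f = Spec.map (CommRingCat.ofHom (algebraMap k k'')) } where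
  toFun g := ⟨g.1 ≫ pullback.fst f _, by
    rw [Category.assoc, pullback.condition, ← Category.assoc, g.2, ← Spec.map_comp,
      ← CommRingCat.ofHom_comp, IsScalarTower.algebraMap_eq k k' k'']⟩
  invFun h := ⟨pullback.lift h.1 (Spec.map (CommRingCat.ofHom (algebraMap k' k''))) (by
    rw [h.2, ← Spec.map_comp, ← CommRingCat.ofHom_comp, IsScalarTower.algebraMap_eq k k' k'']),
    pullback.lift_snd _ _ _⟩
  left_inv g := by
    apply Subtype.ext
    apply pullback.hom_ext
    · rw [pullback.lift_fst]
    · rw [pullback.lift_snd, g.2]
  right_inv h := by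
    apply Subtype.ext
    exact pullback.lift_fst _ _ _

theorem pointCount_baseChange (k'' : Type u) [Field k''] [Algebra k' k''] [Algebra k k'']
    [IsScalarTower k k' k''] :
    SgaExt.pointCount (pullback.snd f (Spec.map (CommRingCat.ofHom (algebraMap k k')))) k'' =
      SgaExt.pointCount f k'' :=
  Nat.card_congr (pointsBaseChangeEquiv f k' k'')

theorem nPts_baseChange [Finite k] [Finite k'] [LocallyOfFiniteType f] [QuasiCompact f] {m : ℕ}
    (hm : 0 < m) :
    Zeta.nPts (pullback.snd f (Spec.map (CommRingCat.ofHom (algebraMap k k')))) m =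
      Zeta.nPts f (Module.finrank k k' * m) := by
  obtain ⟨k'', _, _, _, hk''⟩ := exists_field_ext k' m hm
  letI : Algebra k k'' := ((algebraMap k' k'').comp (algebraMap k k')).toAlgebra
  haveI : IsScalarTower k k' k'' := IsScalarTower.of_algebraMap_eq (fun _ => rfl)
  haveI : Module.Finite k k' := Module.Finite.of_finite
  haveI : Module.Finite k' k'' := Module.Finite.of_finite
  have h1 := Groth.Agent.S13050.result
    (pullback.snd f (Spec.map (CommRingCat.ofHom (algebraMap k k')))) k''
  have h2 := Groth.Agent.S13050.result f k''
  rw [hk''] at h1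
  rw [← Module.finrank_mul_finrank k k' k'', hk''] at h2
  rw [← h1, ← h2, pointCount_baseChange]

end Groth.Agent.Lib.Helper18.PtCount.BC
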