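import Mathlib
import Groth.Agent.Lib.Helper24.PS.LogODE

/-! # Formal identities for the zeta function of a base change to a finite extension -/

set_option autoImplicit false
set_option linter.style.haveILetI false
set_option linter.unusedSectionVars false

open PowerSeries

namespace Groth.Agent.Lib.Helper18.PtCount.BC

open Groth.Agent.Lib.Helper24.PS

section general

variable {A : Type*} [Field A] [CharZero A]

theorem E_sum {ι : Type*} (s : Finset ι) (L : ι → A⟦X⟧)
    (hL : ∀ i ∈ s, constantCoeff (L i) = 0) :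
    (exp A).subst (∑ i ∈ s, L i) = ∏ i ∈ s, (exp A).subst (L i) := by
  have hsum : constantCoeff (∑ i ∈ s, L i) = 0 := by
    rw [map_sum]
    exact Finset.sum_eq_zero hL
  have h1 : d⁄dX A ((exp A).subst (∑ i ∈ s, L i)) =
      (exp A).subst (∑ i ∈ s, L i) * ∑ i ∈ s, d⁄dX A (L i) := by
    rw [derivative_exp_subst hsum, map_sum]
  have h2 : d⁄dX A (∏ i ∈ s, (exp A).subst (L i)) =
      (∏ i ∈ s, (exp A).subst (L i)) * ∑ i ∈ s, d⁄dX A (L i) :=
    derivative_prod_of_logDeriv s _ _ (fun i hi => derivative_exp_subst (hL i hi))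
  refine eq_of_derivative_eq_mul h1 h2 ?_
  rw [constantCoeff_exp_subst hsum, map_prod]
  exact (Finset.prod_eq_one fun i hi => constantCoeff_exp_subst (hL i hi)).symm

theorem rescale_E (a : A) {L : A⟦X⟧} (hL : constantCoeff L = 0) :
    rescale a ((exp A).subst L) = (exp A).subst (rescale a L) := by
  have h1 : PowerSeries.HasSubst L := hasSubst_of_constantCoeff_zero hL
  have h2 : PowerSeries.HasSubst (a • (X : A⟦X⟧)) := by
    apply hasSubst_of_constantCoeff_zero
    simp
  rw [rescale_eq_subst, subst_comp_subst_apply h1 h2, ← rescale_eq_subst]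

theorem expand_E {r : ℕ} (hr : r ≠ 0) {L : A⟦X⟧} (hL : constantCoeff L = 0) :
    PowerSeries.subst ((X : A⟦X⟧) ^ r) (PowerSeries.subst L (exp A)) =
      PowerSeries.subst (PowerSeries.subst ((X : A⟦X⟧) ^ r) L) (exp A) := by
  have h1 : PowerSeries.HasSubst L := hasSubst_of_constantCoeff_zero hL
  have h2 : PowerSeries.HasSubst ((X : A⟦X⟧) ^ r) := PowerSeries.HasSubst.X_pow hr
  rw [subst_comp_subst_apply h1 h2]

theorem map_E {A' B : Type*} [CommRing A'] [CommRing B] [Algebra ℚ A'] [Algebra ℚ B]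
    (φ : A' →+* B) {L : A'⟦X⟧} (hL : constantCoeff L = 0) :
    map φ (PowerSeries.subst L (exp A')) = PowerSeries.subst (map φ L) (exp B) := by
  have h1 : PowerSeries.HasSubst L := PowerSeries.HasSubst.of_constantCoeff_zero' hL
  have := PowerSeries.map_subst h1 (h := φ) (exp A')
  rw [map_exp] at this
  exact this

end general

/-- The formal identity `Z'(t^r) = ∏_{i<r} Z(ξ^i t)` when `N'_m = N_{rm}`. -/
theorem formal_main {r : ℕ} (hr : 0 < r) (ξ : ℂ) (hξ : IsPrimitiveRoot ξ r) (N N' : ℕ → ℕ)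
    (hN : ∀ m, 0 < m → N' m = N (r * m)) :
    PowerSeries.subst ((X : ℂ⟦X⟧) ^ r) (PowerSeries.map (algebraMap ℚ ℂ)
        (PowerSeries.subst (PowerSeries.mk fun m => (N' m : ℚ) / m) (exp ℚ))) =
      ∏ i ∈ Finset.range r, rescale (ξ ^ i) (PowerSeries.map (algebraMap ℚ ℂ)
        (PowerSeries.subst (PowerSeries.mk fun m => (N m : ℚ) / m) (exp ℚ))) := by
  have hr0 : r ≠ 0 := hr.ne'
  have hc' : constantCoeff (PowerSeries.mk fun m => (N' m : ℚ) / m) = 0 := by
    rw [← coeff_zero_eq_constantCoeff_apply, coeff_mk]; simp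
  have hc : constantCoeff (PowerSeries.mk fun m => (N m : ℚ) / m) = 0 := by
    rw [← coeff_zero_eq_constantCoeff_apply, coeff_mk]; simp
  have hmc' : constantCoeff (PowerSeries.map (algebraMap ℚ ℂ)
      (PowerSeries.mk fun m => (N' m : ℚ) / m)) = 0 := by
    rw [← coeff_zero_eq_constantCoeff_apply, coeff_map, coeff_zero_eq_constantCoeff_apply, hc',
      map_zero]
  have hmc : constantCoeff (PowerSeries.map (algebraMap ℚ ℂ)
      (PowerSeries.mk fun m => (N m : ℚ) / m)) = 0 := by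
    rw [← coeff_zero_eq_constantCoeff_apply, coeff_map, coeff_zero_eq_constantCoeff_apply, hc,
      map_zero]
  rw [@map_E ℚ ℂ _ _ (Algebra.id ℚ) DivisionRing.toRatAlgebra _ _ hc',
    @map_E ℚ ℂ _ _ (Algebra.id ℚ) DivisionRing.toRatAlgebra _ _ hc, expand_E hr0 hmc']
  have h1 : ∀ i ∈ Finset.range r, rescale (ξ ^ i) ((exp ℂ).subst (PowerSeries.map (algebraMap ℚ ℂ)
      (PowerSeries.mk fun m => (N m : ℚ) / m))) = (exp ℂ).subst (rescale (ξ ^ i)
        (PowerSeries.map (algebraMap ℚ ℂ) (PowerSeries.mk fun m => (N m : ℚ) / m))) :=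
    fun i _ => rescale_E _ hmc
  rw [Finset.prod_congr rfl h1, ← E_sum]
  swap
  · intro i _
    rw [← coeff_zero_eq_constantCoeff_apply, coeff_rescale, coeff_zero_eq_constantCoeff_apply, hmc,
      mul_zero]
  congr 1
  rw [← expand_apply r hr0]
  ext n
  rw [map_sum]
  simp only [coeff_rescale, coeff_map, coeff_mk]
  rw [← Finset.sum_mul]
  by_cases hdvd : r ∣ n
  · obtain ⟨m, rfl⟩ := hdvd
    rw [coeff_expand_mul, coeff_map, coeff_mk]
    have h2 : ∀ i ∈ Finset.range r, (ξ ^ i) ^ (r * m) = 1 := by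
      intro i _
      rw [← pow_mul, mul_comm i, mul_assoc, pow_mul, hξ.pow_eq_one, one_pow]
    rw [Finset.sum_congr rfl h2, Finset.sum_const, Finset.card_range, nsmul_eq_mul, mul_one]
    rcases Nat.eq_zero_or_pos m with rfl | hm
    · simp
    · rw [hN m hm]
      have hm0 : (m : ℂ) ≠ 0 := by exact_mod_cast hm.ne'
      have hr0' : (r : ℂ) ≠ 0 := by exact_mod_cast hr0
      simp only [eq_ratCast, Rat.cast_div, Rat.cast_natCast, Nat.cast_mul]
      field_simp
      push_cast
      ring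
  · rw [coeff_expand_of_not_dvd r hr0 _ hdvd]
    have h3 : ξ ^ n ≠ 1 := fun h => hdvd ((hξ.pow_eq_one_iff_dvd n).mp h)
    have h4 : ∑ i ∈ Finset.range r, (ξ ^ i) ^ n = 0 := by
      have h5 : ∀ i ∈ Finset.range r, (ξ ^ i) ^ n = (ξ ^ n) ^ i := by
        intro i _
        rw [← pow_mul, ← pow_mul, mul_comm]
      rw [Finset.sum_congr rfl h5]
      refine eq_zero_of_ne_zero_of_mul_left_eq_zero (sub_ne_zero_of_ne h3.symm) ?_
      rw [mul_neg_geom_sum, ← pow_mul, mul_comm, pow_mul, hξ.pow_eq_one, one_pow, sub_self]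
    rw [h4, zero_mul]

end Groth.Agent.Lib.Helper18.PtCount.BC
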