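import Groth.Agent.Lib.Helper18.PtCount.Affine
import Groth.Agent.Lib.Helper18.Curve.Points
import Groth.Prelude.Def_ResDeg

/-! # Closed points of a scheme of finite type over a finite field and points with values in
finite extensions -/

set_option autoImplicit false
set_option linter.style.haveILetI false
set_option linter.unusedSectionVars false

universe u

open AlgebraicGeometry CategoryTheory TopologicalSpace

namespace Groth.Agent.Lib.Helper18.PtCount

open Groth.Agent.Lib.Helper18.Curve

variable {k : Type u} [Field k] {X : Scheme.{u}} (f : X ⟶ Spec (CommRingCat.of k))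

/-- `k → κ(y)` for the point `y` of `Spec k`. -/
noncomputable abbrev ιk (y : Spec (CommRingCat.of k)) :
    k →+* (Spec (CommRingCat.of k)).residueField y :=
  resMapF (𝟙 (Spec (CommRingCat.of k))) y

theorem ιk_bijective (y : Spec (CommRingCat.of k)) : Function.Bijective (ιk y) := by
  set p := Scheme.SpecToEquivOfField k (Spec (CommRingCat.of k)) (𝟙 _) with hp
  have h1 : Spec.map p.2 ≫ (Spec (CommRingCat.of k)).fromSpecResidueField p.1 = 𝟙 _ :=
    (Scheme.SpecToEquivOfField k (Spec (CommRingCat.of k))).left_inv (𝟙 _)
  have h2 := fromSpecResidueField_comp (𝟙 (Spec (CommRingCat.of k))) p.1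
  rw [Category.comp_id] at h2
  rw [h2, ← Spec.map_comp] at h1
  have h3 : CommRingCat.ofHom (resMapF (𝟙 (Spec (CommRingCat.of k))) p.1) ≫ p.2 = 𝟙 _ := by
    apply Spec.map_injective
    rw [h1, Spec.map_id]
  have hy : y = p.1 := Subsingleton.elim _ _
  subst hy
  have h4 : ∀ c : k, p.2.hom (ιk p.1 c) = c := fun c => congrArg (fun φ => φ.hom c) h3
  refine ⟨(ιk p.1).injective, fun z => ⟨p.2.hom z, ?_⟩⟩
  apply p.2.hom.injective
  rw [h4]

theorem residueFieldMap_comp_ιk (x : X) :
    (f.residueFieldMap x).hom.comp (ιk (f x)) = resMapF f x := by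
  have h1 := Scheme.Hom.SpecMap_residueFieldMap_fromSpecResidueField f x
  have h2 := congrArg (fun g => g ≫ 𝟙 (Spec (CommRingCat.of k))) h1
  simp only [Category.assoc] at h2
  rw [fromSpecResidueField_comp (𝟙 (Spec (CommRingCat.of k))) (f x), Category.comp_id,
    fromSpecResidueField_comp f x, ← Spec.map_comp] at h2
  have h3 := Spec.map_injective h2
  ext c
  exact congrArg (fun φ => φ.hom c) h3

/-- The prelude's residue degree over the base point agrees with the degree over `k`. -/
theorem residueDegree_eq_resDeg (x : X) : EGA4loc.residueDegree f x = resDeg f x := by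
  unfold EGA4loc.residueDegree resDeg
  letI a1 : Algebra k (X.residueField x) := resAlg f x
  letI a2 : Algebra ((Spec (CommRingCat.of k)).residueField (f x)) (X.residueField x) :=
    (f.residueFieldMap x).hom.toAlgebra
  refine (Algebra.finrank_eq_of_equiv_equiv (RingEquiv.ofBijective (ιk (f x)) (ιk_bijective _))
    (RingEquiv.refl (X.residueField x)) ?_).symm
  ext c
  exact congrArg (fun φ => φ c) (residueFieldMap_comp_ιk f x)

variable [LocallyOfFiniteType f]

/-- A point with finite residue field over `k` is closed. -/
theorem isClosed_of_resDeg_pos {x : X} (h : 0 < resDeg f x) : IsClosed ({x} : Set X) := by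
  haveI : JacobsonSpace X := LocallyOfFiniteType.jacobsonSpace f
  rw [isClosed_singleton_iff_locallyOfFiniteType]
  have h1 : LocallyOfFiniteType (X.fromSpecResidueField x ≫ f) := by
    rw [fromSpecResidueField_comp, HasRingHomProperty.Spec_iff (P := @LocallyOfFiniteType)]
    letI := resAlg f x
    haveI : Module.Finite k (X.residueField x) := Module.finite_of_finrank_pos h
    show RingHom.FiniteType (algebraMap k (X.residueField x))
    exact RingHom.FiniteType.of_finite (RingHom.finite_algebraMap.mpr inferInstance)
  exact locallyOfFiniteType_of_comp _ f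

end Groth.Agent.Lib.Helper18.PtCount
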