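import Groth.Agent.Lib.Helper18.PtCount.Immersion

/-! # The zeta function is multiplicative over partitions of the closed points by immersions -/

set_option autoImplicit false
set_option linter.style.haveILetI false
set_option linter.unusedSectionVars false

universe u

open AlgebraicGeometry CategoryTheory TopologicalSpace PowerSeries

namespace Groth.Agent.Lib.Helper18.PtCount

open Groth.Agent.Lib.Helper18.Curve Groth.Agent.Lib.Helper24.PS

section Formal

theorem NNa_congr {a b : ℕ → ℕ} (h : ∀ e, 0 < e → a e = b e) (m : ℕ) : NNa a m = NNa b m := by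
  unfold NNa
  refine Finset.sum_congr rfl fun e he => ?_
  rw [h e (Nat.pos_of_mem_divisors he)]

theorem Za_congr {a b : ℕ → ℕ} (h : ∀ e, 0 < e → a e = b e) : Za a = Za b := by
  unfold Za La
  congr 1
  ext m
  rw [coeff_mk, coeff_mk, NNa_congr h]

theorem NNa_sum {ι : Type*} (s : Finset ι) (a : ι → ℕ → ℕ) (m : ℕ) :
    NNa (fun e => ∑ i ∈ s, a i e) m = ∑ i ∈ s, NNa (a i) m := by
  unfold NNa
  rw [Finset.sum_comm]
  refine Finset.sum_congr rfl fun e _ => ?_
  rw [Finset.mul_sum]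

theorem La_sum {ι : Type*} (s : Finset ι) (a : ι → ℕ → ℕ) :
    La (fun e => ∑ i ∈ s, a i e) = ∑ i ∈ s, La (a i) := by
  ext m
  rw [map_sum]
  unfold La
  simp only [coeff_mk]
  rw [NNa_sum, Nat.cast_sum, Finset.sum_div]

theorem Za_sum {ι : Type*} (s : Finset ι) (a : ι → ℕ → ℕ) :
    Za (fun e => ∑ i ∈ s, a i e) = ∏ i ∈ s, Za (a i) := by
  have h1 : d⁄dX ℚ (Za (fun e => ∑ i ∈ s, a i e)) =
      Za (fun e => ∑ i ∈ s, a i e) * ∑ i ∈ s, d⁄dX ℚ (La (a i)) := by
    have h0 : d⁄dX ℚ (Za (fun e => ∑ i ∈ s, a i e)) =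
        Za (fun e => ∑ i ∈ s, a i e) * d⁄dX ℚ (La (fun e => ∑ i ∈ s, a i e)) :=
      derivative_exp_subst (A := ℚ) (constantCoeff_La (fun e => ∑ i ∈ s, a i e))
    rw [h0, La_sum, map_sum]
  have h2 : d⁄dX ℚ (∏ i ∈ s, Za (a i)) = (∏ i ∈ s, Za (a i)) * ∑ i ∈ s, d⁄dX ℚ (La (a i)) :=
    derivative_prod_of_logDeriv s _ _
      (fun i _ => derivative_exp_subst (A := ℚ) (constantCoeff_La (a i)))
  refine eq_of_derivative_eq_mul h1 h2 ?_
  rw [constantCoeff_Za, map_prod]
  exact (Finset.prod_eq_one fun i _ => constantCoeff_Za (a i)).symm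

end Formal

variable {k : Type u} [Field k] [Finite k] {X : Scheme.{u}} (f : X ⟶ Spec (CommRingCat.of k))
  [LocallyOfFiniteType f] [QuasiCompact f]

theorem zetaFun_eq_Za : Zeta.zetaFun f = Za (Zeta.degCount f) := rfl

theorem degCount_partition {ι : Type u} [Fintype ι] (Y : ι → Scheme.{u}) (g : ∀ i, Y i ⟶ X)
    [∀ i, IsImmersion (g i)]
    (hpart : ∀ x : X, IsClosed ({x} : Set X) → ∃! i, x ∈ Set.range (g i).base) {e : ℕ}
    (he : 0 < e) : Zeta.degCount f e = ∑ i, Zeta.degCount (g i ≫ f) e := by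
  classical
  rw [degCount_eq_natCard f he]
  rw [Finset.sum_congr rfl (fun i _ => degCount_eq_natCard (g i ≫ f) he)]
  have hmem : ∀ (i : ι) (y : Y i), resDeg (g i ≫ f) y = e → resDeg f (g i y) = e := by
    intro i y hy
    rw [← resDeg_comp_of_surjectiveOnStalks]
    exact hy
  let Φ : (Σ i, {y : Y i // resDeg (g i ≫ f) y = e}) → {x : X // resDeg f x = e} :=
    fun s => ⟨g s.1 s.2.1, hmem s.1 s.2.1 s.2.2⟩
  have hclosed : ∀ x : {x : X // resDeg f x = e}, IsClosed ({x.1} : Set X) := fun x =>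
    isClosed_of_resDeg_pos f (by rw [x.2]; exact he)
  have hΦinj : Function.Injective Φ := by
    rintro ⟨i, y, hy⟩ ⟨j, y', hy'⟩ h
    have h1 : g i y = g j y' := congrArg Subtype.val h
    obtain ⟨i₀, -, huniq⟩ := hpart (g i y) (hclosed ⟨g i y, hmem i y hy⟩)
    have hi : i = i₀ := huniq i ⟨y, rfl⟩
    have hj : j = i₀ := huniq j ⟨y', h1.symm⟩
    have hij : i = j := hi.trans hj.symm
    subst hij
    have h2 : y = y' := (g i).isEmbedding.injective h1
    subst h2
    rfl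
  have hΦsurj : Function.Surjective Φ := by
    rintro ⟨x, hx⟩
    obtain ⟨i, ⟨y, hy⟩, -⟩ := hpart x (hclosed ⟨x, hx⟩)
    have hy' : g i y = x := hy
    refine ⟨⟨i, y, ?_⟩, Subtype.ext hy'⟩
    rw [resDeg_comp_of_surjectiveOnStalks, hy']
    exact hx
  haveI : Finite {x : X // resDeg f x = e} := finite_resDeg_eq f he
  haveI : ∀ i, Finite {y : Y i // resDeg (g i ≫ f) y = e} := by
    intro i
    let Ψ : {y : Y i // resDeg (g i ≫ f) y = e} → {x : X // resDeg f x = e} :=
      fun y => ⟨g i y.1, hmem i y.1 y.2⟩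
    refine Finite.of_injective Ψ ?_
    intro y y' h
    exact Subtype.ext ((g i).isEmbedding.injective (congrArg Subtype.val h))
  rw [← Nat.card_sigma]
  exact (Nat.card_congr (Equiv.ofBijective Φ ⟨hΦinj, hΦsurj⟩)).symm

theorem zetaFun_partition {ι : Type u} [Fintype ι] (Y : ι → Scheme.{u}) (g : ∀ i, Y i ⟶ X)
    [∀ i, IsImmersion (g i)]
    (hpart : ∀ x : X, IsClosed ({x} : Set X) → ∃! i, x ∈ Set.range (g i).base) :
    Zeta.zetaFun f = ∏ i, Zeta.zetaFun (g i ≫ f) := by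
  rw [zetaFun_eq_Za]
  have h1 : ∀ i, Zeta.zetaFun (g i ≫ f) = Za (Zeta.degCount (g i ≫ f)) := fun i => rfl
  rw [Finset.prod_congr rfl (fun i _ => h1 i), ← Za_sum]
  exact Za_congr (fun e he => degCount_partition f Y g hpart he)

end Groth.Agent.Lib.Helper18.PtCount
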